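import Mathlib

/-!
# Cubic forms as symmetric trilinear forms; harmonic homologies
-/

open MvPolynomial

namespace Groth.Agent.EckardtLib

variable {k : Type*} [Field k] [CharZero k] {σ : Type*} [Fintype σ] [DecidableEq σ]

/-- Third derivative. -/
noncomputable def coe₃ (f : MvPolynomial σ k) (i j l : σ) : k := eval 0 (pderiv i (pderiv j (pderiv l f)))

/-- The symmetric trilinear form of a cubic form. -/
noncomputable def B (f : MvPolynomial σ k) (x y z : σ → k) : k :=
  (36 : k)⁻¹ * ∑ i, ∑ j, ∑ l, coe₃ f i j l *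
    (x i * y j * z l + x i * z j * y l + y i * x j * z l + y i * z j * x l + z i * x j * y l + z i * y j * x l)

variable {f : MvPolynomial σ k}

omit [CharZero k] [DecidableEq σ] in
theorem B_comm₁₂ (x y z : σ → k) : B f x y z = B f y x z := by
  unfold B
  congr 1
  refine Finset.sum_congr rfl fun i _ => Finset.sum_congr rfl fun j _ => Finset.sum_congr rfl fun l _ => ?_
  ring

omit [CharZero k] [DecidableEq σ] in
theorem B_comm₂₃ (x y z : σ → k) : B f x y z = B f x z y := by
  unfold B
  congr 1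
  refine Finset.sum_congr rfl fun i _ => Finset.sum_congr rfl fun j _ => Finset.sum_congr rfl fun l _ => ?_
  ring

omit [CharZero k] [DecidableEq σ] in
theorem B_add₁ (x x' y z : σ → k) : B f (x + x') y z = B f x y z + B f x' y z := by
  unfold B
  rw [← mul_add, ← Finset.sum_add_distrib]
  congr 1
  refine Finset.sum_congr rfl fun i _ => ?_
  rw [← Finset.sum_add_distrib]
  refine Finset.sum_congr rfl fun j _ => ?_
  rw [← Finset.sum_add_distrib]
  refine Finset.sum_congr rfl fun l _ => ?_
  simp only [Pi.add_apply]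
  ring

omit [CharZero k] [DecidableEq σ] in
theorem B_smul₁ (c : k) (x y z : σ → k) : B f (c • x) y z = c * B f x y z := by
  unfold B
  rw [mul_left_comm]
  congr 1
  rw [Finset.mul_sum]
  refine Finset.sum_congr rfl fun i _ => ?_
  rw [Finset.mul_sum]
  refine Finset.sum_congr rfl fun j _ => ?_
  rw [Finset.mul_sum]
  refine Finset.sum_congr rfl fun l _ => ?_
  simp only [Pi.smul_apply, smul_eq_mul]
  ring

omit [CharZero k] [DecidableEq σ] in
theorem B_add₂ (x y y' z : σ → k) : B f x (y + y') z = B f x y z + B f x y' z := by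
  rw [B_comm₁₂, B_add₁, B_comm₁₂ y, B_comm₁₂ y']

omit [CharZero k] [DecidableEq σ] in
theorem B_smul₂ (c : k) (x y z : σ → k) : B f x (c • y) z = c * B f x y z := by
  rw [B_comm₁₂, B_smul₁, B_comm₁₂ y]

omit [CharZero k] [DecidableEq σ] in
theorem B_add₃ (x y z z' : σ → k) : B f x y (z + z') = B f x y z + B f x y z' := by
  rw [B_comm₂₃, B_add₂, B_comm₂₃ x z, B_comm₂₃ x z']

omit [CharZero k] [DecidableEq σ] in
theorem B_smul₃ (c : k) (x y z : σ → k) : B f x y (c • z) = c * B f x y z := by
  rw [B_comm₂₃, B_smul₂, B_comm₂₃ x z]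

omit [CharZero k] [DecidableEq σ] in
theorem B_sub₁ (x x' y z : σ → k) : B f (x - x') y z = B f x y z - B f x' y z := by
  rw [sub_eq_add_neg, ← neg_one_smul k x', B_add₁, B_smul₁]; ring

omit [CharZero k] [DecidableEq σ] in
theorem B_sub₂ (x y y' z : σ → k) : B f x (y - y') z = B f x y z - B f x y' z := by
  rw [B_comm₁₂, B_sub₁, B_comm₁₂ y, B_comm₁₂ y']

omit [CharZero k] [DecidableEq σ] in
theorem B_sub₃ (x y z z' : σ → k) : B f x y (z - z') = B f x y z - B f x y z' := by
  rw [B_comm₂₃, B_sub₂, B_comm₂₃ x z, B_comm₂₃ x z']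

omit [DecidableEq σ] in
theorem eval_eq_sum (hf : f.IsHomogeneous 3) (v : σ → k) :
    eval v f = (6 : k)⁻¹ * ∑ i, ∑ j, ∑ l, coe₃ f i j l * (v i * v j * v l) := by
  have h1 : ∀ (g : MvPolynomial σ k) (n : ℕ), g.IsHomogeneous n →
      (n : k) * eval v g = ∑ i, v i * eval v (pderiv i g) := fun g n hg => by
    have := congrArg (eval v) hg.sum_X_mul_pderiv
    simp only [map_sum, map_mul, eval_X, nsmul_eq_mul, map_natCast] at this
    exact this.symm
  have h0 : ∀ g : MvPolynomial σ k, g.IsHomogeneous 0 → eval v g = eval 0 g := fun g hg => by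
    rw [← totalDegree_zero_iff_isHomogeneous, totalDegree_eq_zero_iff_eq_C] at hg
    rw [hg, eval_C, eval_C]
  have e3 : ∀ i j l, eval v (pderiv i (pderiv j (pderiv l f))) = coe₃ f i j l := fun i j l =>
    h0 _ hf.pderiv.pderiv.pderiv
  have e2 : ∀ j l, eval v (pderiv j (pderiv l f)) = ∑ i, v i * coe₃ f i j l := fun j l => by
    have := h1 (pderiv j (pderiv l f)) 1 hf.pderiv.pderiv
    simpa [e3] using this
  have e1 : ∀ l, 2 * eval v (pderiv l f) = ∑ j, v j * ∑ i, v i * coe₃ f i j l := fun l => by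
    have := h1 (pderiv l f) 2 hf.pderiv
    simpa [e2] using this
  have e0 := h1 f 3 hf
  have h6 : (6 : k) * eval v f = ∑ l, v l * ∑ j, v j * ∑ i, v i * coe₃ f i j l := by
    calc (6 : k) * eval v f = 2 * ((3 : ℕ) * eval v f) := by push_cast; ring
      _ = ∑ l, v l * (2 * eval v (pderiv l f)) := by
        rw [e0, Finset.mul_sum]; exact Finset.sum_congr rfl fun l _ => by ring
      _ = _ := Finset.sum_congr rfl fun l _ => by rw [e1]
  rw [eq_inv_mul_iff_mul_eq₀ (by norm_num), h6]
  simp only [Finset.mul_sum]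
  rw [Finset.sum_comm]
  refine (Finset.sum_congr rfl fun j _ => Finset.sum_comm).trans ?_
  rw [Finset.sum_comm]
  refine Finset.sum_congr rfl fun i _ => Finset.sum_congr rfl fun j _ => Finset.sum_congr rfl fun l _ => ?_
  ring

omit [DecidableEq σ] in
theorem eval_eq_B (hf : f.IsHomogeneous 3) (v : σ → k) : eval v f = B f v v v := by
  rw [eval_eq_sum hf]
  unfold B
  simp only [Finset.mul_sum]
  refine Finset.sum_congr rfl fun i _ => Finset.sum_congr rfl fun j _ => Finset.sum_congr rfl fun l _ => ?_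
  ring

theorem eval_pderiv_eq_B (hf : f.IsHomogeneous 3) (v : σ → k) (m : σ) :
    eval v (pderiv m f) = 3 * B f v v (Pi.single m 1) := by
  have hrep : f = ∑ i, ∑ j, ∑ l, C ((6 : k)⁻¹ * coe₃ f i j l) * (X i * X j * X l) :=
    MvPolynomial.funext fun x => by
      rw [eval_eq_sum hf]
      simp only [map_sum, map_mul, eval_C, eval_X, Finset.mul_sum, mul_assoc]
  conv_lhs => rw [hrep]
  unfold B
  simp only [map_sum, Finset.mul_sum]
  refine Finset.sum_congr rfl fun i _ => Finset.sum_congr rfl fun j _ => Finset.sum_congr rfl fun l _ => ?_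
  simp only [pderiv_C_mul, pderiv_C, mul_zero, zero_mul, zero_add, map_mul, pderiv_mul, pderiv_X, map_add, eval_C, eval_X, smul_eq_mul,
    Pi.single_apply, apply_ite (eval v), map_one, map_zero]
  split_ifs <;> subst_vars <;> first | ring | (simp_all; ring)

end Groth.Agent.EckardtLib
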