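import Mathlib
import Groth.Agent.EckardtLib.Basic

/-!
# Eckardt points of smooth cubic surfaces and their harmonic homologies
-/

open MvPolynomial

namespace Groth.Agent.EckardtLib

universe u

variable {k : Type u} [Field k] [CharZero k]

local notation "V" => Fin 4 → k

variable {f : MvPolynomial (Fin 4) k}

/-- The trilinear form detects smoothness. -/
def SmoothB (f : MvPolynomial (Fin 4) k) : Prop :=
  ∀ v : V, v ≠ 0 → B f v v v = 0 → ∃ y : V, B f v v y ≠ 0

theorem smoothB_of_smooth (hf : f.IsHomogeneous 3)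
    (hs : ∀ v : V, v ≠ 0 → eval v f = 0 → ∃ i : Fin 4, eval v (pderiv i f) ≠ 0) : SmoothB f :=
  fun v hv h0 => by
    obtain ⟨i, hi⟩ := hs v hv (by rwa [eval_eq_B hf])
    refine ⟨Pi.single i 1, fun h => hi ?_⟩
    rw [eval_pderiv_eq_B hf, h, mul_zero]

theorem eval_sub_linear (A : Matrix (Fin 4) (Fin 4) k) (v : V) (f : MvPolynomial (Fin 4) k) :
    eval v (aeval (fun i : Fin 4 => ∑ j : Fin 4, C (A i j) * X j) f) = eval (A.mulVec v) f := by
  induction f using MvPolynomial.induction_on with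
  | C c => simp
  | add p q hp hq => simp only [map_add, hp, hq]
  | mul_X p i hp =>
    rw [map_mul, map_mul, hp, map_mul, aeval_X]
    simp [Matrix.mulVec, dotProduct]

theorem B_self_add (x y : V) (t : k) : B f (x + t • y) (x + t • y) (x + t • y) =
    B f x x x + 3 * t * B f x x y + 3 * t ^ 2 * B f x y y + t ^ 3 * B f y y y := by
  simp only [B_add₁, B_add₂, B_add₃, B_smul₁, B_smul₂, B_smul₃]
  rw [B_comm₁₂ y x x, B_comm₂₃ x y x, B_comm₁₂ y x y, B_comm₂₃ y y x, B_comm₁₂ y x y]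
  ring

/-- The point `e` lies on three distinct lines of the surface. -/
def Three (f : MvPolynomial (Fin 4) k) (e : V) : Prop :=
  ∃ U : Fin 3 → Submodule k V, Function.Injective U ∧
    ∀ i : Fin 3, Module.finrank k ↥(U i) = 2 ∧ e ∈ U i ∧ ∀ u ∈ U i, eval u f = 0

/-- `φ` is the form of a harmonic homology of the surface with centre `e`. -/
def IsRefl (f : MvPolynomial (Fin 4) k) (e : V) (φ : V →ₗ[k] k) : Prop :=
  φ e = 1 ∧ ∀ x, B f e x x = 2 * φ x * B f e e x

/-- `β = B(e, e, ·)`. -/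
noncomputable def beta (f : MvPolynomial (Fin 4) k) (e : V) : V →ₗ[k] k where
  toFun x := B f e e x
  map_add' x y := B_add₃ e e x y
  map_smul' c x := B_smul₃ c e e x

theorem beta_apply (e x : V) : beta f e x = B f e e x := rfl

theorem IsRefl.self_eq_zero {e : V} {φ : V →ₗ[k] k} (h : IsRefl f e φ) : B f e e e = 0 := by
  have := h.2 e
  rw [h.1] at this
  linear_combination (-1 : k) * this

theorem IsRefl.polar {e : V} {φ : V →ₗ[k] k} (h : IsRefl f e φ) (x y : V) :
    B f e x y = φ x * B f e e y + φ y * B f e e x := by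
  have hxy := h.2 (x + y)
  rw [B_add₂, B_add₃, B_add₃, map_add, B_add₃, h.2 x, h.2 y, B_comm₂₃ e y x] at hxy
  linear_combination (1/2 : k) * hxy

theorem IsRefl.ne_zero {e : V} {φ : V →ₗ[k] k} (h : IsRefl f e φ) : e ≠ 0 := fun h0 => by
  have := h.1
  rw [h0, map_zero] at this
  exact zero_ne_one this

theorem exists_beta_eq_one (hs : SmoothB f) {e : V} (he : e ≠ 0) (h0 : B f e e e = 0) :
    ∃ z : V, B f e e z = 1 := by
  obtain ⟨y, hy⟩ := hs e he h0
  exact ⟨(B f e e y)⁻¹ • y, by rw [B_smul₃, inv_mul_cancel₀ hy]⟩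

theorem IsRefl.unique (hs : SmoothB f) {e : V} {φ φ' : V →ₗ[k] k} (h : IsRefl f e φ)
    (h' : IsRefl f e φ') : φ = φ' := by
  obtain ⟨z, hz⟩ := exists_beta_eq_one hs h.ne_zero h.self_eq_zero
  have key : ∀ x, B f e e x ≠ 0 → φ x = φ' x := fun x hx => by
    have := (h.2 x).symm.trans (h'.2 x)
    exact mul_left_cancel₀ (two_ne_zero : (2 : k) ≠ 0) (mul_right_cancel₀ hx this)
  refine LinearMap.ext fun x => ?_
  by_cases hx : B f e e x = 0
  · have h1 := key z (by rw [hz]; exact one_ne_zero)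
    have h2 := key (x + z) (by rw [B_add₃, hx, hz, zero_add]; exact one_ne_zero)
    rw [map_add, map_add, h1] at h2
    exact add_right_cancel h2
  · exact key x hx

theorem line_cond (hf : f.IsHomogeneous 3) {e u : V} (he : B f e e e = 0) :
    (∀ v ∈ Submodule.span k {e, u}, eval v f = 0) ↔
      B f e e u = 0 ∧ B f e u u = 0 ∧ B f u u u = 0 := by
  constructor
  · intro h
    have hv : ∀ t : k, B f e e e + 3 * t * B f e e u + 3 * t ^ 2 * B f e u u + t ^ 3 * B f u u u = 0 :=
      fun t => by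
        rw [← B_self_add, ← eval_eq_B hf]
        exact h _ (Submodule.mem_span_pair.2 ⟨1, t, by simp⟩)
    have hu : B f u u u = 0 := by
      rw [← eval_eq_B hf]
      exact h _ (Submodule.mem_span_pair.2 ⟨0, 1, by simp⟩)
    have h1 := hv 1
    have h2 := hv (-1)
    exact ⟨by linear_combination (1/6 : k) * h1 - (1/6 : k) * h2 - (1/3 : k) * hu,
      by linear_combination (1/6 : k) * h1 + (1/6 : k) * h2 - (1/3 : k) * he, hu⟩
  · rintro ⟨h1, h2, h3⟩ v hv
    obtain ⟨a, b, rfl⟩ := Submodule.mem_span_pair.1 hv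
    rw [eval_eq_B hf, B_self_add]
    simp only [B_smul₁, B_smul₂, B_smul₃, he, h1, h2, h3]
    ring

theorem exists_rep_of_line (hf : f.IsHomogeneous 3) {e : V} (he : e ≠ 0) {U : Submodule k V}
    (hU : Module.finrank k U = 2) (heU : e ∈ U) (h : ∀ u ∈ U, eval u f = 0) :
    ∃ u, U = Submodule.span k {e, u} ∧ u ∉ Submodule.span k {e} ∧
      B f e e u = 0 ∧ B f e u u = 0 ∧ B f u u u = 0 := by
  have hle : Submodule.span k {e} ≤ U := by rw [Submodule.span_le]; simpa using heU
  obtain ⟨u, huU, hu⟩ : ∃ u ∈ U, u ∉ Submodule.span k {e} := by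
    by_contra hcon
    push Not at hcon
    have := Submodule.finrank_mono (show U ≤ Submodule.span k {e} from hcon)
    rw [finrank_span_singleton he, hU] at this
    omega
  have hspan : U = Submodule.span k {e, u} := by
    refine (Submodule.eq_of_le_of_finrank_le (Submodule.span_le.2 (by
      intro x hx; rcases hx with rfl | rfl <;> assumption)) ?_).symm
    rw [hU]
    have hlt : Submodule.span k {e} < Submodule.span k {e, u} :=
      lt_of_le_of_ne (Submodule.span_mono (by simp)) fun h => hu (h ▸ Submodule.subset_span (by simp))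
    have := Submodule.finrank_lt_finrank_of_lt hlt
    rw [finrank_span_singleton he] at this
    omega
  have hBe : B f e e e = 0 := by rw [← eval_eq_B hf]; exact h e heU
  exact ⟨u, hspan, hu, (line_cond hf hBe).1 fun v hv => h v (hspan ▸ hv)⟩

theorem frame (hs : SmoothB f) {e : V} (he : e ≠ 0) (hBe : B f e e e = 0) {U₀ U₁ : Submodule k V}
    (hne : U₀ ≠ U₁) (h₀ : Module.finrank k U₀ = 2) (h₁ : Module.finrank k U₁ = 2) {u₀ u₁ : V}
    (s₀ : U₀ = Submodule.span k {e, u₀}) (s₁ : U₁ = Submodule.span k {e, u₁})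
    (hu₀ : u₀ ∉ Submodule.span k {e}) (hb₀ : B f e e u₀ = 0) (hb₁ : B f e e u₁ = 0) :
    LinearIndependent k ![e, u₀, u₁] ∧
      LinearMap.ker (beta f e) = Submodule.span k (Set.range ![e, u₀, u₁]) := by
  obtain ⟨z, hz⟩ := exists_beta_eq_one hs he hBe
  have hind : LinearIndependent k ![e, u₀, u₁] := by
    rw [Fintype.linearIndependent_iff]
    intro g hg
    simp [Fin.sum_univ_three] at hg
    have h2 : g 2 = 0 := by
      by_contra hne'
      have hmem : u₁ ∈ Submodule.span k {e, u₀} := Submodule.mem_span_pair.2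
        ⟨-(g 2)⁻¹ * g 0, -(g 2)⁻¹ * g 1, by
          have h' : g 2 • u₁ = -(g 0 • e + g 1 • u₀) := by linear_combination (norm := module) hg
          calc _ = (g 2)⁻¹ • (g 2 • u₁) := by rw [h']; module
            _ = u₁ := by rw [smul_smul, inv_mul_cancel₀ hne', one_smul]⟩
      have hle : U₁ ≤ U₀ := by
        rw [s₁, s₀, Submodule.span_le]
        intro x hx
        rcases hx with rfl | rfl
        · exact Submodule.subset_span (by simp)
        · exact hmem
      exact hne (Submodule.eq_of_le_of_finrank_eq hle (by rw [h₁, h₀])).symm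
    have h1 : g 1 = 0 := by
      by_contra hne'
      rw [h2, zero_smul, add_zero] at hg
      refine hu₀ (Submodule.mem_span_singleton.2 ⟨-(g 1)⁻¹ * g 0, ?_⟩)
      have h' : g 1 • u₀ = -(g 0 • e) := by linear_combination (norm := module) hg
      calc _ = (g 1)⁻¹ • (g 1 • u₀) := by rw [h']; module
        _ = u₀ := by rw [smul_smul, inv_mul_cancel₀ hne', one_smul]
    have h0 : g 0 = 0 := by
      rw [h2, h1, zero_smul, zero_smul, add_zero, add_zero] at hg
      exact (smul_eq_zero.1 hg).resolve_right he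
    intro i; fin_cases i <;> assumption
  have hsurj : Function.Surjective (beta f e) := fun c => ⟨c • z, by
    rw [map_smul, beta_apply, hz, smul_eq_mul, mul_one]⟩
  have hK : LinearMap.ker (beta f e) = Submodule.span k (Set.range ![e, u₀, u₁]) := by
    refine (Submodule.eq_of_le_of_finrank_eq ?_ ?_).symm
    · rw [Submodule.span_le]
      rintro _ ⟨i, rfl⟩
      rw [SetLike.mem_coe, LinearMap.mem_ker]
      fin_cases i
      · exact hBe
      · exact hb₀
      · exact hb₁
    · have := LinearMap.finrank_range_add_finrank_ker (beta f e)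
      rw [Module.finrank_fin_fun, LinearMap.range_eq_top.2 hsurj, finrank_top, Module.finrank_self] at this
      rw [finrank_span_eq_card hind, Fintype.card_fin]
      omega
  exact ⟨hind, hK⟩

/-- An Eckardt point is the centre of a harmonic homology. -/
theorem exists_refl_of_three (hf : f.IsHomogeneous 3) (hs : SmoothB f) {e : V} (he : e ≠ 0)
    (hE : Three f e) : ∃ φ, IsRefl f e φ := by
  obtain ⟨U, hinj, hU⟩ := hE
  choose u hspan hu hb hq _ using fun i => exists_rep_of_line hf he (hU i).1 (hU i).2.1 (hU i).2.2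
  have hBe : B f e e e = 0 := by rw [← eval_eq_B hf]; exact (hU 0).2.2 e (hU 0).2.1
  obtain ⟨z, hz⟩ := exists_beta_eq_one hs he hBe
  obtain ⟨-, hK⟩ := frame hs he hBe (hinj.ne (show (0 : Fin 3) ≠ 1 by decide)) (hU 0).1 (hU 1).1
    (hspan 0) (hspan 1) (hu 0) (hb 0) (hb 1)
  obtain ⟨g, hg⟩ := Submodule.mem_span_range_iff_exists_fun k |>.1
    (hK ▸ (show u 2 ∈ LinearMap.ker (beta f e) from hb 2))
  simp [Fin.sum_univ_three] at hg
  have hne : ∀ i : Fin 3, i ≠ 2 → ∀ a c : k, u 2 ≠ a • e + c • u i := fun i hi a c hc => by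
    have hle : U 2 ≤ U i := by
      rw [hspan 2, hspan i, Submodule.span_le]
      intro x hx
      rcases hx with rfl | rfl
      · exact Submodule.subset_span (by simp)
      · exact Submodule.mem_span_pair.2 ⟨a, c, hc.symm⟩
    exact hi (hinj (Submodule.eq_of_le_of_finrank_eq hle (by rw [(hU 2).1, (hU i).1]))).symm
  have hg1 : g 1 ≠ 0 := fun h => hne 1 (by decide) (g 0) (g 2) (by rw [← hg, h]; module)
  have hg2 : g 2 ≠ 0 := fun h => hne 0 (by decide) (g 0) (g 1) (by rw [← hg, h]; module)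
  have h01 : B f e (u 0) (u 1) = 0 := by
    have h2 := hq 2
    rw [← hg] at h2
    simp only [B_add₂, B_add₃, B_smul₂, B_smul₃] at h2
    rw [hBe, hb 0, hb 1, hq 0, hq 1, B_comm₂₃ e (u 0) e, hb 0, B_comm₂₃ e (u 1) e, hb 1,
      B_comm₂₃ e (u 1) (u 0)] at h2
    have : g 1 * g 2 * B f e (u 0) (u 1) = 0 := by linear_combination (1/2 : k) * h2
    exact (mul_eq_zero.1 this).resolve_left (mul_ne_zero hg1 hg2)
  have hzero : ∀ x, B f e e x = 0 → B f e x x = 0 := by
    intro x hx
    obtain ⟨a, ha⟩ := Submodule.mem_span_range_iff_exists_fun k |>.1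
      (hK ▸ (show x ∈ LinearMap.ker (beta f e) from hx))
    simp [Fin.sum_univ_three] at ha
    rw [← ha]
    simp only [B_add₂, B_add₃, B_smul₂, B_smul₃]
    rw [hBe, hb 0, hb 1, hq 0, hq 1, B_comm₂₃ e (u 0) e, hb 0, B_comm₂₃ e (u 1) e, hb 1,
      B_comm₂₃ e (u 1) (u 0), h01]
    ring
  refine ⟨{ toFun := fun x => B f e x z - (1/2) * B f e z z * B f e e x,
            map_add' := fun x y => by rw [B_add₂, B_add₃]; ring,
            map_smul' := fun c x => by rw [B_smul₂, B_smul₃, RingHom.id_apply, smul_eq_mul]; ring },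
    ?_, fun x => ?_⟩
  · show B f e e z - _ = 1
    rw [hz, hBe]; ring
  · show _ = 2 * (B f e x z - _) * _
    set b := B f e e x with hbx
    have h0 : B f e e (x - b • z) = 0 := by rw [B_sub₃, B_smul₃, hz, ← hbx]; ring
    have h1 := hzero _ h0
    simp only [B_sub₂, B_sub₃, B_smul₂, B_smul₃] at h1
    rw [B_comm₂₃ e z x] at h1
    linear_combination h1

theorem proj_eq {r₁ r₂ : k} (hne : r₁ ≠ r₂) (i j : Fin 3) (b : k)
    (e1 : b * (![((1 : k), (0 : k)), (r₁, 1), (r₂, 1)] j).1 = (![((1 : k), (0 : k)), (r₁, 1), (r₂, 1)] i).1)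
    (e2 : b * (![((1 : k), (0 : k)), (r₁, 1), (r₂, 1)] j).2 = (![((1 : k), (0 : k)), (r₁, 1), (r₂, 1)] i).2) :
    i = j := by
  fin_cases i <;> fin_cases j <;> simp at e1 e2 ⊢
  all_goals (subst e2; simp_all)

theorem three_of_refl [IsAlgClosed k] (hf : f.IsHomogeneous 3) (hs : SmoothB f) {e : V}
    {φ : V →ₗ[k] k} (h : IsRefl f e φ) : Three f e := by
  have he0 := h.self_eq_zero
  obtain ⟨z₀, hz₀⟩ := exists_beta_eq_one hs h.ne_zero he0
  set z := z₀ - φ z₀ • e with hz_def
  have hz : B f e e z = 1 := by rw [hz_def, B_sub₃, B_smul₃, he0, hz₀]; ring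
  have hφz : φ z = 0 := by rw [hz_def, map_sub, map_smul, h.1, smul_eq_mul, mul_one, sub_self]
  let T : V →ₗ[k] k × k := φ.prod (beta f e)
  have hT : Function.Surjective T := fun p => ⟨p.1 • e + p.2 • z, by
    ext
    · simp [T, h.1, hφz]
    · simp [T, beta_apply, B_add₃, B_sub₃, B_smul₃, he0, hz]⟩
  have hW : Module.finrank k (LinearMap.ker T) = 2 := by
    have := LinearMap.finrank_range_add_finrank_ker T
    rw [Module.finrank_fin_fun, LinearMap.range_eq_top.2 hT, finrank_top, Module.finrank_prod,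
      Module.finrank_self] at this
    omega
  let bW := Module.finBasisOfFinrankEq k (LinearMap.ker T) hW
  set w₁ : V := (bW 0 : V)
  set w₂ : V := (bW 1 : V)
  have hmem : ∀ i, φ (bW i : V) = 0 ∧ B f e e (bW i : V) = 0 := fun i => by
    have := LinearMap.mem_ker.1 (bW i).2
    exact ⟨congrArg Prod.fst this, congrArg Prod.snd this⟩
  have hdec : ∀ v : V, ∃ a b c d : k, v = a • w₁ + b • w₂ + c • e + d • z := by
    intro v
    have hv : v - φ v • e - B f e e v • z ∈ LinearMap.ker T := by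
      rw [LinearMap.mem_ker]
      ext
      · simp [T, h.1, hφz]
      · simp [T, beta_apply, B_add₃, B_sub₃, B_smul₃, he0, hz]
    refine ⟨bW.repr ⟨_, hv⟩ 0, bW.repr ⟨_, hv⟩ 1, φ v, B f e e v, ?_⟩
    have := congrArg (Subtype.val) (bW.sum_repr ⟨_, hv⟩)
    simp only [Fin.sum_univ_two, Submodule.coe_add, Submodule.coe_smul] at this
    calc v = (v - φ v • e - B f e e v • z) + φ v • e + B f e e v • z := by abel
      _ = _ := congrArg (fun y : V => y + φ v • e + B f e e v • z) this.symm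
  have hindW : ∀ a b : k, a • w₁ + b • w₂ = 0 → a = 0 ∧ b = 0 := fun a b hab => by
    have h2 : a • bW 0 + b • bW 1 = 0 := Subtype.ext (by simpa using hab)
    have := Fintype.linearIndependent_iff.1 bW.linearIndependent ![a, b] (by
      simpa [Fin.sum_univ_two] using h2)
    exact ⟨this 0, this 1⟩
  -- no multiple root on the binary cubic
  have key : ∀ a b : k, a • w₁ + b • w₂ ≠ 0 →
      B f (a • w₁ + b • w₂) (a • w₁ + b • w₂) (a • w₁ + b • w₂) = 0 →
      B f (a • w₁ + b • w₂) (a • w₁ + b • w₂) w₁ = 0 →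
      B f (a • w₁ + b • w₂) (a • w₁ + b • w₂) w₂ = 0 → False := by
    intro a b hy hF h1 h2
    set y := a • w₁ + b • w₂ with hy_def
    have hφy : φ y = 0 := by simp [hy_def, w₁, w₂, (hmem 0).1, (hmem 1).1]
    have hβy : B f e e y = 0 := by
      simp [hy_def, B_add₃, B_smul₃, w₁, w₂, (hmem 0).2, (hmem 1).2]
    obtain ⟨s, hs2⟩ := IsAlgClosed.exists_pow_nat_eq (-(B f y y z)) (show 0 < 2 by norm_num)
    have hv : y + s • e ≠ 0 := fun h0 => by
      have h3 := congrArg φ h0
      rw [map_add, map_smul, hφy, h.1, map_zero, zero_add, smul_eq_mul, mul_one] at h3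
      rw [h3, zero_smul, add_zero] at h0
      exact hy h0
    have hp : ∀ x x' : V, φ x = 0 → φ x' = 0 → B f x x' e = 0 := fun x x' hx hx' => by
      rw [B_comm₂₃ x x' e, B_comm₁₂ x e x', h.polar, hx, hx']; ring
    have hee : ∀ x : V, B f y e x = φ x * 0 + 0 * B f e e x := fun x => by
      rw [B_comm₁₂, h.polar, hφy, hβy]; ring
    obtain ⟨v', hv'⟩ := hs _ hv (by
      rw [B_self_add, hF, hp y y hφy hφy, B_comm₂₃ y e e, hee, he0]; ring)
    apply hv'
    obtain ⟨p, q, c, d, rfl⟩ := hdec v'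
    simp only [B_add₁, B_add₂, B_smul₁, B_smul₂, B_add₃, B_smul₃]
    rw [B_comm₁₂ e y w₁, B_comm₁₂ e y w₂, B_comm₁₂ e y e, B_comm₁₂ e y z, hee, hee, hee, hee, h1, h2,
      he0, hz, (hmem 0).2, (hmem 1).2, hp y y hφy hφy]
    linear_combination d * hs2
  -- a first root, then two more
  obtain ⟨u₁, u₂, hu1, hspanW, hu12⟩ : ∃ u₁ u₂ : V, B f u₁ u₁ u₁ = 0 ∧
      (∀ a b : k, ∃ a' b' : k, a • u₁ + b • u₂ = a' • w₁ + b' • w₂) ∧
      (∀ a b : k, ∃ a' b' : k, a • w₁ + b • w₂ = a' • u₁ + b' • u₂) := by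
    by_cases h1 : B f w₁ w₁ w₁ = 0
    · exact ⟨w₁, w₂, h1, fun a b => ⟨a, b, rfl⟩, fun a b => ⟨a, b, rfl⟩⟩
    obtain ⟨s, hs'⟩ := IsAlgClosed.exists_root (Polynomial.C (B f w₁ w₁ w₁) * Polynomial.X ^ 3 +
      Polynomial.C (3 * B f w₂ w₁ w₁) * Polynomial.X ^ 2 + Polynomial.C (3 * B f w₂ w₂ w₁) * Polynomial.X +
      Polynomial.C (B f w₂ w₂ w₂)) (by rw [Polynomial.degree_cubic h1]; decide)
    simp at hs'
    refine ⟨w₂ + s • w₁, w₁, by rw [B_self_add]; linear_combination hs',
      fun a b => ⟨a * s + b, a, by module⟩, fun a b => ⟨b, a - b * s, by module⟩⟩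
  have hlin : ∀ a b : k, a • u₁ + b • u₂ = 0 → a = 0 ∧ b = 0 := by
    intro a b hab
    let M : Submodule k V := Submodule.span k {u₁, u₂}
    have hle : Submodule.span k (Set.range ![w₁, w₂]) ≤ M := by
      rw [Submodule.span_le]
      rintro _ ⟨i, rfl⟩
      fin_cases i
      · obtain ⟨a', b', h'⟩ := hu12 1 0
        exact Submodule.mem_span_pair.2 ⟨a', b', by simpa using h'.symm⟩
      · obtain ⟨a', b', h'⟩ := hu12 0 1
        exact Submodule.mem_span_pair.2 ⟨a', b', by simpa using h'.symm⟩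
    have hiw : LinearIndependent k ![w₁, w₂] := LinearIndependent.pair_iff.2 hindW
    have hfin := Submodule.finrank_mono hle
    rw [finrank_span_eq_card hiw, Fintype.card_fin] at hfin
    have hiu : LinearIndependent k ![u₁, u₂] := by
      rw [linearIndependent_iff_card_le_finrank_span, Fintype.card_fin, Set.finrank]
      refine le_trans hfin (le_of_eq ?_)
      rw [show M = Submodule.span k (Set.range ![u₁, u₂]) from congrArg (Submodule.span k) (by
        simp [Matrix.range_cons, Matrix.range_empty, Set.pair_comm])]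
    exact LinearIndependent.pair_iff.1 hiu a b hab
  have key' : ∀ a b : k, a • u₁ + b • u₂ ≠ 0 →
      B f (a • u₁ + b • u₂) (a • u₁ + b • u₂) (a • u₁ + b • u₂) = 0 →
      B f (a • u₁ + b • u₂) (a • u₁ + b • u₂) u₁ = 0 →
      B f (a • u₁ + b • u₂) (a • u₁ + b • u₂) u₂ = 0 → False := by
    intro a b h0 hF h1 h2
    obtain ⟨a', b', h'⟩ := hspanW a b
    obtain ⟨p, q, hp⟩ := hu12 1 0
    obtain ⟨p', q', hp'⟩ := hu12 0 1
    simp only [one_smul, zero_smul, add_zero, zero_add] at hp hp'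
    refine key a' b' (h' ▸ h0) (h' ▸ hF) ?_ ?_ <;> rw [← h']
    · rw [hp, B_add₃, B_smul₃, B_smul₃, h1, h2]; ring
    · rw [hp', B_add₃, B_smul₃, B_smul₃, h1, h2]; ring
  have hu1ne : u₁ ≠ 0 := fun h0 => one_ne_zero (hlin 1 0 (by rw [h0]; simp)).1
  have ha : B f u₁ u₁ u₂ ≠ 0 := fun h2 => key' 1 0 (by simpa using hu1ne) (by simpa using hu1)
    (by simpa using hu1) (by simpa using h2)
  obtain ⟨r₁, hr₁⟩ : ∃ r : k, 3 * B f u₁ u₁ u₂ * r ^ 2 + 3 * B f u₂ u₂ u₁ * r + B f u₂ u₂ u₂ = 0 := by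
    obtain ⟨r, hr⟩ := IsAlgClosed.exists_root (Polynomial.C (3 * B f u₁ u₁ u₂) * Polynomial.X ^ 2 +
      Polynomial.C (3 * B f u₂ u₂ u₁) * Polynomial.X + Polynomial.C (B f u₂ u₂ u₂))
      (by rw [Polynomial.degree_quadratic (mul_ne_zero three_ne_zero ha)]; decide)
    exact ⟨r, by simpa using hr⟩
  set r₂ := -(B f u₂ u₂ u₁) / B f u₁ u₁ u₂ - r₁ with hr₂_def
  have hsum : B f u₁ u₁ u₂ * (r₁ + r₂) = -(B f u₂ u₂ u₁) := by
    rw [hr₂_def, add_sub_cancel, mul_div_cancel₀ _ ha]
  have hroot : ∀ r : k, 3 * B f u₁ u₁ u₂ * r ^ 2 + 3 * B f u₂ u₂ u₁ * r + B f u₂ u₂ u₂ = 0 →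
      B f (u₂ + r • u₁) (u₂ + r • u₁) (u₂ + r • u₁) = 0 := fun r hr => by
    rw [B_self_add, hu1, B_comm₁₂ u₂ u₁ u₁, B_comm₂₃ u₁ u₂ u₁]
    linear_combination hr
  have hne : r₁ ≠ r₂ := by
    intro heq
    rw [← heq] at hsum
    have hd : B f (u₂ + r₁ • u₁) (u₂ + r₁ • u₁) u₁ = 0 := by
      simp only [B_add₁, B_add₂, B_smul₁, B_smul₂]
      rw [hu1, B_comm₁₂ u₂ u₁ u₁, B_comm₂₃ u₁ u₂ u₁]
      linear_combination hsum
    have hF := hroot r₁ hr₁
    refine key' r₁ 1 ?_ ?_ ?_ ?_
    · intro h0; exact one_ne_zero (hlin r₁ 1 h0).2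
    · rwa [one_smul, add_comm (r₁ • u₁)]
    · rwa [one_smul, add_comm (r₁ • u₁)]
    · rw [one_smul, add_comm (r₁ • u₁)]
      rw [B_add₃, B_smul₃, hd, mul_zero, add_zero] at hF
      exact hF
  have hr₂ : 3 * B f u₁ u₁ u₂ * r₂ ^ 2 + 3 * B f u₂ u₂ u₁ * r₂ + B f u₂ u₂ u₂ = 0 := by
    linear_combination hr₁ + 3 * (r₂ - r₁) * hsum
  let pts : Fin 3 → V := ![u₁, u₂ + r₁ • u₁, u₂ + r₂ • u₁]
  have hpts : ∀ i, φ (pts i) = 0 ∧ B f e e (pts i) = 0 ∧ B f (pts i) (pts i) (pts i) = 0 := by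
    have hW0 : ∀ a b : k, φ (a • u₁ + b • u₂) = 0 ∧ B f e e (a • u₁ + b • u₂) = 0 := fun a b => by
      obtain ⟨a', b', h'⟩ := hspanW a b
      rw [h']
      exact ⟨by simp [w₁, w₂, (hmem 0).1, (hmem 1).1],
        by simp [B_add₃, B_smul₃, w₁, w₂, (hmem 0).2, (hmem 1).2]⟩
    intro i; fin_cases i
    · exact ⟨by simpa [pts] using (hW0 1 0).1, by simpa [pts] using (hW0 1 0).2, hu1⟩
    · exact ⟨by simpa [pts, add_comm] using (hW0 r₁ 1).1, by simpa [pts, add_comm] using (hW0 r₁ 1).2,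
        hroot _ hr₁⟩
    · exact ⟨by simpa [pts, add_comm] using (hW0 r₂ 1).1, by simpa [pts, add_comm] using (hW0 r₂ 1).2,
        hroot _ hr₂⟩
  refine ⟨fun i => Submodule.span k {e, pts i}, fun i j hij => ?_, fun i => ⟨?_, ?_, ?_⟩⟩
  · have hij' : pts i ∈ Submodule.span k {e, pts j} := by
      have h1 : pts i ∈ Submodule.span k {e, pts i} := Submodule.subset_span (by simp)
      exact (show Submodule.span k {e, pts i} = Submodule.span k {e, pts j} from hij) ▸ h1
    obtain ⟨a, b, hab⟩ := Submodule.mem_span_pair.1 hij'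
    have ha0 : a = 0 := by
      have := congrArg φ hab
      rwa [map_add, map_smul, map_smul, h.1, (hpts i).1, (hpts j).1, smul_zero, add_zero, smul_eq_mul,
        mul_one] at this
    rw [ha0, zero_smul, zero_add] at hab
    have hl : ∀ a' b' c' d' : k, a' • u₁ + b' • u₂ = c' • u₁ + d' • u₂ → a' = c' ∧ b' = d' :=
      fun a' b' c' d' h' => by
        obtain ⟨x, y⟩ := hlin (a' - c') (b' - d') (by linear_combination (norm := module) h')
        exact ⟨sub_eq_zero.1 x, sub_eq_zero.1 y⟩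
    let cd : Fin 3 → k × k := ![(1, 0), (r₁, 1), (r₂, 1)]
    have hco : ∀ i, pts i = (cd i).1 • u₁ + (cd i).2 • u₂ := fun i => by
      fin_cases i
      · simp [pts, cd]
      · show u₂ + r₁ • u₁ = r₁ • u₁ + (1 : k) • u₂; module
      · show u₂ + r₂ • u₁ = r₂ • u₁ + (1 : k) • u₂; module
    rw [hco i, hco j, smul_add, smul_smul, smul_smul] at hab
    obtain ⟨e1, e2⟩ := hl _ _ _ _ hab
    exact proj_eq hne i j b e1 e2
  · have hi : LinearIndependent k ![e, pts i] := by
      rw [LinearIndependent.pair_iff]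
      intro a b hab
      have ha' := congrArg φ hab
      rw [map_add, map_smul, map_smul, h.1, (hpts i).1, smul_zero, add_zero, smul_eq_mul, mul_one,
        map_zero] at ha'
      refine ⟨ha', ?_⟩
      rw [ha', zero_smul, zero_add] at hab
      refine (smul_eq_zero.1 hab).resolve_right ?_
      intro h0
      fin_cases i
      · exact hu1ne h0
      · exact one_ne_zero (hlin r₁ 1 (by simpa [pts, add_comm] using h0)).2
      · exact one_ne_zero (hlin r₂ 1 (by simpa [pts, add_comm] using h0)).2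
    have := finrank_span_eq_card hi
    rw [Matrix.range_cons, Matrix.range_cons, Matrix.range_empty, Set.union_empty, Fintype.card_fin] at this
    exact this
  · exact Submodule.subset_span (by simp)
  · exact (line_cond hf he0).2 ⟨(hpts i).2.1, by rw [h.2, (hpts i).1]; ring, (hpts i).2.2⟩

end Groth.Agent.EckardtLib
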