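import Mathlib
import Groth.Agent.EckardtLib.Basic
import Groth.Agent.EckardtLib.Refl

/-!
# Eckardt involutions: uniqueness, commutation, triangles
-/

open MvPolynomial

namespace Groth.Agent.EckardtLib

universe u

variable {k : Type u} [Field k] [CharZero k]

local notation "V" => Fin 4 → k

variable {f : MvPolynomial (Fin 4) k}

/-- An Eckardt involution with centre `e`. -/
def IsInv (f : MvPolynomial (Fin 4) k) (e : V) (A : Matrix (Fin 4) (Fin 4) k) : Prop :=
  A * A = 1 ∧ Module.finrank k ↥(LinearMap.ker (Matrix.toLin' A - LinearMap.id)) = 3 ∧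
    A.mulVec e = -e ∧ ∃ c : k, aeval (fun i : Fin 4 => ∑ j : Fin 4, C (A i j) * X j) f = C c * f

/-- The reflection `x ↦ x - 2 φ(x) e`. -/
noncomputable def reflMat (e : V) (φ : V →ₗ[k] k) : Matrix (Fin 4) (Fin 4) k :=
  LinearMap.toMatrix' (LinearMap.id - (2 : k) • φ.smulRight e)

theorem reflMat_mulVec (e : V) (φ : V →ₗ[k] k) (x : V) :
    (reflMat e φ).mulVec x = x - (2 * φ x) • e := by
  rw [← Matrix.toLin'_apply, reflMat, Matrix.toLin'_toMatrix']
  simp [smul_smul]

theorem mat_ext {A A' : Matrix (Fin 4) (Fin 4) k} (h : ∀ x : V, A.mulVec x = A'.mulVec x) : A = A' :=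
  Matrix.toLin'.injective (LinearMap.ext fun x => by rw [Matrix.toLin'_apply, Matrix.toLin'_apply, h])

/-- A reflection preserves the form. -/
theorem IsRefl.map_eq {e : V} {φ : V →ₗ[k] k} (h : IsRefl f e φ) (x : V) :
    B f (x - (2 * φ x) • e) (x - (2 * φ x) • e) (x - (2 * φ x) • e) = B f x x x := by
  simp only [B_sub₁, B_sub₂, B_sub₃, B_smul₁, B_smul₂, B_smul₃]
  rw [B_comm₁₂ x e x, B_comm₂₃ x x e, B_comm₁₂ x e x, B_comm₁₂ x e e, B_comm₂₃ e x e, h.self_eq_zero,
    h.2 x]
  ring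

theorem IsRefl.isInv (hf : f.IsHomogeneous 3) {e : V} {φ : V →ₗ[k] k} (h : IsRefl f e φ) :
    IsInv f e (reflMat e φ) := by
  refine ⟨mat_ext fun x => ?_, ?_, ?_, 1, ?_⟩
  · rw [← Matrix.mulVec_mulVec, reflMat_mulVec, reflMat_mulVec, Matrix.one_mulVec, map_sub, map_smul,
      h.1, smul_eq_mul, mul_one]
    module
  · have hker : LinearMap.ker (Matrix.toLin' (reflMat e φ) - LinearMap.id) = LinearMap.ker φ := by
      ext x
      rw [LinearMap.mem_ker, LinearMap.mem_ker, LinearMap.sub_apply, Matrix.toLin'_apply, reflMat_mulVec,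
        LinearMap.id_apply]
      constructor
      · intro h0
        have : (2 * φ x) • e = 0 := by simpa using h0
        simpa using (smul_eq_zero.1 this).resolve_right h.ne_zero
      · intro h0; simp [h0]
    have hs : Function.Surjective φ := fun c => ⟨c • e, by rw [map_smul, h.1, smul_eq_mul, mul_one]⟩
    have := LinearMap.finrank_range_add_finrank_ker φ
    rw [Module.finrank_fin_fun, LinearMap.range_eq_top.2 hs, finrank_top, Module.finrank_self] at this
    rw [hker]; omega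
  · rw [reflMat_mulVec, h.1]; module
  · refine MvPolynomial.funext fun x => ?_
    rw [eval_sub_linear, C_1, one_mul, reflMat_mulVec, eval_eq_B hf, eval_eq_B hf, h.map_eq]

/-- A homology preserving a smooth cubic up to a scalar is a reflection of the cubic. -/
theorem isRefl_of_map (hs : SmoothB f) {e : V} {φ : V →ₗ[k] k} (hφ : φ e = 1) (he0 : B f e e e = 0)
    {c : k} (h : ∀ x, B f (x - (2 * φ x) • e) (x - (2 * φ x) • e) (x - (2 * φ x) • e) = c * B f x x x) :
    IsRefl f e φ := by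
  have he : e ≠ 0 := fun h0 => by rw [h0, map_zero] at hφ; exact zero_ne_one hφ
  have key : ∀ y, φ y = 0 → (1 + c) * B f e y y = 0 ∧ (1 - c) * B f e e y = 0 := by
    intro y hy
    have hA : ∀ t : k, y + t • e - (2 * φ (y + t • e)) • e = y + (-t) • e := fun t => by
      rw [map_add, map_smul, hy, hφ, smul_eq_mul, mul_one, zero_add]; module
    have h0 := h (y + (0 : k) • e)
    have h1 := h (y + (1 : k) • e)
    have h2 := h (y + (-1 : k) • e)
    rw [hA, B_self_add, B_self_add, B_comm₂₃ y y e, B_comm₁₂ y e y, B_comm₁₂ y e e, B_comm₂₃ e y e, he0] at h0 h1 h2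
    constructor
    · linear_combination (-1/6 : k) * h1 + (1/6 : k) * h2
    · linear_combination (1/6 : k) * h1 + (1/6 : k) * h2 - (1/3 : k) * h0
  have hy : ∀ x, φ (x - φ x • e) = 0 := fun x => by rw [map_sub, map_smul, hφ, smul_eq_mul, mul_one, sub_self]
  have hc : c = 1 := by
    by_contra hne
    obtain ⟨x, hx⟩ := hs e he he0
    have h1 := (mul_eq_zero.1 (key _ (hy x)).2).resolve_left (sub_ne_zero.2 (Ne.symm hne))
    rw [B_sub₃, B_smul₃, he0, mul_zero, sub_zero] at h1
    exact hx h1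
  refine ⟨hφ, fun x => ?_⟩
  have h1 := (key _ (hy x)).1
  rw [hc] at h1
  have h2 := (mul_eq_zero.1 h1).resolve_left (by norm_num)
  simp only [B_sub₂, B_sub₃, B_smul₂, B_smul₃] at h2
  rw [B_comm₂₃ e x e, he0] at h2
  linear_combination h2

theorem IsInv.exists_refl (hf : f.IsHomogeneous 3) (hs : SmoothB f) {e : V} (he : e ≠ 0)
    (he0 : eval e f = 0) {A : Matrix (Fin 4) (Fin 4) k} (h : IsInv f e A) :
    ∃ φ, IsRefl f e φ ∧ A = reflMat e φ := by
  obtain ⟨-, hfin, hAe, c, hc⟩ := h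
  obtain ⟨i, hi⟩ : ∃ i, e i ≠ 0 := Function.ne_iff.1 he
  set g : V →ₗ[k] k := (e i)⁻¹ • LinearMap.proj i
  have hg : g e = 1 := by simp [g, hi]
  set L := Matrix.toLin' A - LinearMap.id with hL
  have hLe : L e = (-2 : k) • e := by
    rw [hL, LinearMap.sub_apply, Matrix.toLin'_apply, hAe, LinearMap.id_apply]; module
  have hr : Submodule.span k {e} = LinearMap.range L := by
    refine Submodule.eq_of_le_of_finrank_le ((Submodule.span_singleton_le_iff_mem _ _).2
      ⟨(-1/2 : k) • e, by rw [map_smul, hLe, smul_smul]; norm_num⟩) ?_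
    have := LinearMap.finrank_range_add_finrank_ker L
    rw [Module.finrank_fin_fun, hfin] at this
    rw [finrank_span_singleton he]; omega
  set φ : V →ₗ[k] k := (-1/2 : k) • (g.comp L) with hφ
  have hA : ∀ x, A.mulVec x = x - (2 * φ x) • e := fun x => by
    obtain ⟨a, ha⟩ := Submodule.mem_span_singleton.1 (hr.symm ▸ LinearMap.mem_range_self L x :
      L x ∈ Submodule.span k {e})
    have h1 : φ x = (-1/2 : k) * a := by
      rw [hφ, LinearMap.smul_apply, LinearMap.comp_apply, ← ha, map_smul, hg, smul_eq_mul, smul_eq_mul, mul_one]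
    have h2 : A.mulVec x = x + L x := by
      rw [hL, LinearMap.sub_apply, Matrix.toLin'_apply, LinearMap.id_apply]; abel
    rw [h2, h1, ← ha]; module
  have hφe : φ e = 1 := by
    rw [hφ, LinearMap.smul_apply, LinearMap.comp_apply, hLe, map_smul, hg]; simp
  refine ⟨φ, isRefl_of_map hs hφe (by rwa [← eval_eq_B hf]) (c := c) fun x => ?_,
    mat_ext fun x => by rw [hA, reflMat_mulVec]⟩
  have := congrArg (eval x) hc
  rw [eval_sub_linear, map_mul, eval_C, hA, eval_eq_B hf, eval_eq_B hf] at this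
  exact this

theorem eval_eq_zero_of_three {e : V} (h : Three f e) : eval e f = 0 := by
  obtain ⟨U, -, hU⟩ := h
  exact (hU 0).2.2 e (hU 0).2.1

theorem existsUnique_inv (hf : f.IsHomogeneous 3) (hs : SmoothB f) {e : V} (he : e ≠ 0) (hE : Three f e) :
    ∃! A, IsInv f e A := by
  obtain ⟨φ, hφ⟩ := exists_refl_of_three hf hs he hE
  refine ⟨reflMat e φ, hφ.isInv hf, fun A hA => ?_⟩
  obtain ⟨φ', hφ', rfl⟩ := IsInv.exists_refl hf hs he (eval_eq_zero_of_three hE) hA
  rw [hφ'.unique hs hφ]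

theorem three_of_inv [IsAlgClosed k] (hf : f.IsHomogeneous 3) (hs : SmoothB f) {e : V} (he : e ≠ 0)
    (he0 : eval e f = 0) {A : Matrix (Fin 4) (Fin 4) k} (h : IsInv f e A) : Three f e := by
  obtain ⟨φ, hφ, -⟩ := h.exists_refl hf hs he he0
  exact three_of_refl hf hs hφ

theorem pair_indep {e e' : V} (he : e ≠ 0) (he' : e' ∉ Submodule.span k {e}) :
    ∀ a b : k, a • e + b • e' = 0 → a = 0 ∧ b = 0 := fun a b h => by
  have hb : b = 0 := by
    by_contra hb
    refine he' (Submodule.mem_span_singleton.2 ⟨-b⁻¹ * a, ?_⟩)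
    have h' : b • e' = -(a • e) := by linear_combination (norm := module) h
    calc _ = b⁻¹ • (b • e') := by rw [h']; module
      _ = e' := by rw [smul_smul, inv_mul_cancel₀ hb, one_smul]
  rw [hb, zero_smul, add_zero] at h
  exact ⟨(smul_eq_zero.1 h).resolve_right he, hb⟩

theorem refl_commute [IsAlgClosed k] (hf : f.IsHomogeneous 3) (hs : SmoothB f) {e e' : V} (he' : e' ∉ Submodule.span k {e})
    {φ φ' : V →ₗ[k] k} (h : IsRefl f e φ) (h' : IsRefl f e' φ')
    (hL : ∀ u ∈ Submodule.span k {e, e'}, eval u f = 0) : φ e' = 0 ∧ φ' e = 0 := by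
  obtain ⟨h1, h2, h3⟩ := (line_cond hf h.self_eq_zero).1 hL
  have h2' : B f e' e' e = 0 := by rw [B_comm₂₃, B_comm₁₂]; exact h2
  have hab : ∀ x, φ e' * B f e e x = φ' e * B f e' e' x := fun x => by
    have p := h.polar e' x
    have p' := h'.polar e x
    rw [h1, mul_zero, add_zero] at p
    rw [h2', mul_zero, add_zero, B_comm₁₂ e' e x] at p'
    rw [← p, ← p']
  obtain ⟨z, hz⟩ := exists_beta_eq_one hs h.ne_zero h.self_eq_zero
  by_cases hb : φ' e = 0
  · have := hab z
    rw [hz, hb, zero_mul, mul_one] at this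
    exact ⟨this, hb⟩
  exfalso
  obtain ⟨s, hs2⟩ := IsAlgClosed.exists_pow_nat_eq ((φ e') ^ 2 - φ e' / φ' e) (show 0 < 2 by norm_num)
  have hv0 : e' + (s - φ e') • e ≠ 0 := fun h0 =>
    one_ne_zero (pair_indep h.ne_zero he' (s - φ e') 1 (by linear_combination (norm := module) h0)).2
  obtain ⟨x, hx⟩ := hs _ hv0 (by
    rw [← eval_eq_B hf]; exact hL _ (Submodule.mem_span_pair.2 ⟨s - φ e', 1, by module⟩))
  apply hx
  have hx' : B f e' e' x = φ e' / φ' e * B f e e x := by
    rw [div_mul_eq_mul_div, hab, mul_div_cancel_left₀ _ hb]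
  have hp := h.polar e' x
  rw [h1, mul_zero, add_zero] at hp
  simp only [B_add₁, B_add₂, B_smul₁, B_smul₂]
  rw [B_comm₁₂ e' e x, hp, hx']
  linear_combination B f e e x * hs2

theorem inv_commute [IsAlgClosed k] (hf : f.IsHomogeneous 3) (hs : SmoothB f) {e e' : V} (he : e ≠ 0)
    (he' : e' ∉ Submodule.span k {e}) (hL : ∀ u ∈ Submodule.span k {e, e'}, eval u f = 0)
    {A A' : Matrix (Fin 4) (Fin 4) k} (hA : IsInv f e A) (hA' : IsInv f e' A') :
    A * A' = A' * A ∧ A.mulVec e' = e' ∧ A'.mulVec e = e := by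
  have he'0 : e' ≠ 0 := fun h => he' (h ▸ Submodule.zero_mem _)
  obtain ⟨φ, h, rfl⟩ := hA.exists_refl hf hs he (hL e (Submodule.subset_span (by simp)))
  obtain ⟨φ', h', rfl⟩ := hA'.exists_refl hf hs he'0 (hL e' (Submodule.subset_span (by simp)))
  obtain ⟨ha, hb⟩ := refl_commute hf hs he' h h' hL
  refine ⟨mat_ext fun x => ?_, ?_, ?_⟩
  · rw [← Matrix.mulVec_mulVec, ← Matrix.mulVec_mulVec]
    simp only [reflMat_mulVec, map_sub, map_smul, ha, hb, smul_zero, sub_zero]
    module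
  · simp [reflMat_mulVec, ha]
  · simp [reflMat_mulVec, hb]

/-- Two Eckardt points whose line is not on the surface. -/
theorem secant (hf : f.IsHomogeneous 3) {e e' : V}
    {φ φ' : V →ₗ[k] k} (h : IsRefl f e φ) (h' : IsRefl f e' φ')
    (hL : ¬ ∀ u ∈ Submodule.span k {e, e'}, eval u f = 0) :
    φ e' ≠ 0 ∧ φ' e ≠ 0 ∧ 4 * φ e' * φ' e = 1 ∧
      ∀ s t : k, eval (s • e + t • e') f = 0 → s = 0 ∨ t = 0 ∨ s = -2 * φ e' * t := by
  have hq : B f e e' e' = 2 * φ e' * B f e e e' := h.2 e'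
  have hp : B f e e e' = 2 * φ' e * B f e e' e' := by
    have := h'.2 e
    rw [B_comm₁₂ e' e e, B_comm₂₃ e e' e, B_comm₂₃ e' e' e, B_comm₁₂ e' e e'] at this
    exact this
  have hne : B f e e e' ≠ 0 := fun h0 => hL ((line_cond hf h.self_eq_zero).2
    ⟨h0, by rw [hq, h0, mul_zero], h'.self_eq_zero⟩)
  have h4 : 4 * φ e' * φ' e = 1 := by
    refine mul_right_cancel₀ hne ?_
    linear_combination -hp - 2 * φ' e * hq
  refine ⟨fun h0 => by simp [h0] at h4, fun h0 => by simp [h0] at h4, h4, fun s t hst => ?_⟩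
  rw [eval_eq_B hf, B_self_add] at hst
  simp only [B_smul₁, B_smul₂, B_smul₃] at hst
  rw [h.self_eq_zero, h'.self_eq_zero, hq] at hst
  have : 3 * B f e e e' * (s * (t * (s + 2 * φ e' * t))) = 0 := by linear_combination hst
  have := (mul_eq_zero.1 this).resolve_left (mul_ne_zero three_ne_zero hne)
  rcases mul_eq_zero.1 this with h0 | h0
  · exact Or.inl h0
  rcases mul_eq_zero.1 h0 with h0 | h0
  · exact Or.inr (Or.inl h0)
  · exact Or.inr (Or.inr (by linear_combination h0))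

/-- Conjugating one reflection by another. -/
theorem conj (hs : SmoothB f) {e e' e'' : V} {φ φ' : V →ₗ[k] k} (h : IsRefl f e φ) (h' : IsRefl f e' φ')
    {t : k} (ht : t ≠ 0) (he'' : e'' = t • (e' - (2 * φ e') • e)) :
    ∃ ψ, IsRefl f e'' ψ ∧ reflMat e'' ψ = reflMat e φ * reflMat e' φ' * reflMat e φ := by
  set ψ : V →ₗ[k] k := t⁻¹ • φ'.comp (Matrix.toLin' (reflMat e φ))
  have hψ : ∀ x, ψ x = t⁻¹ * φ' (x - (2 * φ x) • e) := fun x => by
    simp [ψ, Matrix.toLin'_apply, reflMat_mulVec]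
  have hAA : ∀ x, x - (2 * φ x) • e - (2 * φ (x - (2 * φ x) • e)) • e = x := fun x => by
    rw [map_sub, map_smul, h.1, smul_eq_mul, mul_one]; module
  have hψe : ψ e'' = 1 := by
    have h1 : e'' - (2 * φ e'') • e = t • e' := by
      rw [he'', map_smul, map_sub, map_smul, h.1, smul_eq_mul, smul_eq_mul, mul_one]; module
    rw [hψ, h1, map_smul, h'.1, smul_eq_mul, mul_one, inv_mul_cancel₀ ht]
  have hcomp : ∀ x, (reflMat e φ * reflMat e' φ' * reflMat e φ).mulVec x = x - (2 * ψ x) • e'' := fun x => by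
    rw [← Matrix.mulVec_mulVec, ← Matrix.mulVec_mulVec, reflMat_mulVec e φ x, reflMat_mulVec e' φ', hψ, he'',
      reflMat_mulVec, map_sub φ, map_smul φ, map_sub φ x, map_smul φ (2 * φ x), h.1, smul_smul]
    simp only [smul_eq_mul]
    have : 2 * (t⁻¹ * φ' (x - (2 * φ x) • e)) * t = 2 * φ' (x - (2 * φ x) • e) := by field_simp
    rw [this]
    module
  refine ⟨ψ, isRefl_of_map hs hψe ?_ (c := 1) fun x => ?_, mat_ext fun x => by rw [reflMat_mulVec, hcomp]⟩
  · rw [he'']
    simp only [B_smul₁, B_smul₂, B_smul₃]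
    rw [h.map_eq, h'.self_eq_zero]; ring
  · rw [← hcomp, ← Matrix.mulVec_mulVec, ← Matrix.mulVec_mulVec]
    simp only [reflMat_mulVec]
    rw [h.map_eq, h'.map_eq, h.map_eq, one_mul]

theorem third_point [IsAlgClosed k] (hf : f.IsHomogeneous 3) (hs : SmoothB f) {e e' : V} (he : e ≠ 0)
    (he' : e' ∉ Submodule.span k {e}) (hE : Three f e) (hE' : Three f e')
    (hL : ¬ ∀ u ∈ Submodule.span k {e, e'}, eval u f = 0) :
    ∃ e'' : V, e'' ∈ Submodule.span k {e, e'} ∧ e'' ∉ Submodule.span k {e} ∧ e'' ∉ Submodule.span k {e'} ∧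
      Three f e'' ∧ ∀ u ∈ Submodule.span k {e, e'}, eval u f = 0 →
        u ∈ Submodule.span k {e} ∨ u ∈ Submodule.span k {e'} ∨ u ∈ Submodule.span k {e''} := by
  have he'0 : e' ≠ 0 := fun h => he' (h ▸ Submodule.zero_mem _)
  obtain ⟨φ, h⟩ := exists_refl_of_three hf hs he hE
  obtain ⟨φ', h'⟩ := exists_refl_of_three hf hs he'0 hE'
  obtain ⟨ha, -, -, hz⟩ := secant hf h h' hL
  obtain ⟨ψ, hψ, -⟩ := conj hs h h' one_ne_zero (e'' := e' - (2 * φ e') • e) (one_smul _ _).symm
  refine ⟨_, Submodule.mem_span_pair.2 ⟨-2 * φ e', 1, by module⟩, fun hm => ?_, fun hm => ?_,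
    three_of_refl hf hs hψ, fun u hu h0 => ?_⟩
  · obtain ⟨a, ha'⟩ := Submodule.mem_span_singleton.1 hm
    exact one_ne_zero (pair_indep he he' (-2 * φ e' - a) 1 (by linear_combination (norm := module) -ha')).2
  · obtain ⟨a, ha'⟩ := Submodule.mem_span_singleton.1 hm
    have := (pair_indep he he' (-2 * φ e') (1 - a) (by linear_combination (norm := module) -ha')).1
    exact ha (by linear_combination (-1/2 : k) * this)
  · obtain ⟨s, t, rfl⟩ := Submodule.mem_span_pair.1 hu
    rcases hz s t h0 with rfl | rfl | rfl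
    · exact Or.inr (Or.inl (Submodule.mem_span_singleton.2 ⟨t, by module⟩))
    · exact Or.inl (Submodule.mem_span_singleton.2 ⟨s, by module⟩)
    · exact Or.inr (Or.inr (Submodule.mem_span_singleton.2 ⟨t, by module⟩))

theorem not_line_and_three_points {e e' e'' : V} (he : e ≠ 0) (he' : e' ∉ Submodule.span k {e})
    (h : ∀ u ∈ Submodule.span k {e, e'},
      u ∈ Submodule.span k {e} ∨ u ∈ Submodule.span k {e'} ∨ u ∈ Submodule.span k {e''}) : False := by
  have key : ∀ n : k, n ≠ 0 → ∃ a : k, a • e'' = e + n • e' := by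
    intro n hn
    rcases h (e + n • e') (Submodule.mem_span_pair.2 ⟨1, n, by module⟩) with h1 | h1 | h1
    · obtain ⟨a, ha⟩ := Submodule.mem_span_singleton.1 h1
      have := (pair_indep he he' (1 - a) n (by linear_combination (norm := module) -ha)).2
      exact absurd this hn
    · obtain ⟨a, ha⟩ := Submodule.mem_span_singleton.1 h1
      exact absurd (pair_indep he he' 1 (n - a) (by linear_combination (norm := module) -ha)).1 one_ne_zero
    · exact Submodule.mem_span_singleton.1 h1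
  obtain ⟨a, ha⟩ := key 1 one_ne_zero
  obtain ⟨b, hb⟩ := key 2 two_ne_zero
  obtain ⟨h1, h2⟩ := pair_indep he he' (b - a) (b - 2 * a)
    (by linear_combination (norm := module) a • hb - b • ha)
  have ha0 : a = 0 := by linear_combination h1 - h2
  rw [ha0, zero_smul] at ha
  exact one_ne_zero (pair_indep he he' 1 1 (by linear_combination (norm := module) -ha)).1

theorem inv_triangle (hf : f.IsHomogeneous 3) (hs : SmoothB f) {e e' e'' : V} (he : e ≠ 0)
    (he' : e' ∉ Submodule.span k {e}) (he''1 : e'' ∉ Submodule.span k {e})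
    (he''2 : e'' ∉ Submodule.span k {e'}) (he''L : e'' ∈ Submodule.span k {e, e'})
    (h0 : eval e f = 0) (h0' : eval e' f = 0) (h0'' : eval e'' f = 0)
    (hL : ¬ ∀ u ∈ Submodule.span k {e, e'}, eval u f = 0) {A A' A'' : Matrix (Fin 4) (Fin 4) k}
    (hA : IsInv f e A) (hA' : IsInv f e' A') (hA'' : IsInv f e'' A'') :
    (¬ ∃ c : k, A * A' = c • (1 : Matrix (Fin 4) (Fin 4) k)) ∧ (A * A') ^ 3 = 1 ∧ A'' = A * A' * A := by
  have he'0 : e' ≠ 0 := fun h => he' (h ▸ Submodule.zero_mem _)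
  have he''0 : e'' ≠ 0 := fun h => he''1 (h ▸ Submodule.zero_mem _)
  obtain ⟨φ, h, rfl⟩ := hA.exists_refl hf hs he h0
  obtain ⟨φ', h', rfl⟩ := hA'.exists_refl hf hs he'0 h0'
  obtain ⟨φ'', h'', rfl⟩ := hA''.exists_refl hf hs he''0 h0''
  obtain ⟨ha, hb, hab, hz⟩ := secant hf h h' hL
  obtain ⟨s, t, rfl⟩ := Submodule.mem_span_pair.1 he''L
  rcases hz s t h0'' with rfl | rfl | rfl
  · exact absurd (Submodule.mem_span_singleton.2 ⟨t, by module⟩) he''2
  · exact absurd (Submodule.mem_span_singleton.2 ⟨s, by module⟩) he''1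
  have ht : t ≠ 0 := by rintro rfl; exact he''0 (by module)
  obtain ⟨ψ, hψ, hψA⟩ := conj hs h h' ht (e'' := (-2 * φ e' * t) • e + t • e') (by module)
  obtain ⟨χ, hχ, hχA⟩ := conj hs h' h (t := -2 * φ e' * t) (mul_ne_zero (mul_ne_zero (by norm_num) ha) ht)
    (e'' := (-2 * φ e' * t) • e + t • e') (by
      rw [smul_sub, smul_smul, show -2 * φ e' * t * (2 * φ' e) = -t by linear_combination -t * hab]
      module)
  rw [h''.unique hs hψ, hψA]
  refine ⟨?_, ?_, rfl⟩
  · rintro ⟨c, hc⟩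
    have := congrArg (fun M => Matrix.mulVec M e') hc
    simp only [← Matrix.mulVec_mulVec, reflMat_mulVec, h'.1, Matrix.smul_mulVec, Matrix.one_mulVec,
      map_sub, map_smul] at this
    have h2 := (pair_indep he he' (2 * φ e') (-1 - c) (by
      simp only [smul_eq_mul] at this; linear_combination (norm := module) this)).1
    exact ha (by linear_combination (1/2 : k) * h2)
  · have h1 : reflMat e φ * reflMat e' φ' * reflMat e φ = reflMat e' φ' * reflMat e φ * reflMat e' φ' := by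
      rw [← hψA, ← hχA, hψ.unique hs hχ]
    have h2 := (hψ.isInv hf).1
    rw [hψA] at h2
    calc _ = (reflMat e φ * reflMat e' φ' * reflMat e φ) * (reflMat e' φ' * reflMat e φ * reflMat e' φ') := by
          simp only [pow_succ, pow_zero, one_mul, Matrix.mul_assoc]
      _ = 1 := by rw [← h1, h2]

/-- Four lines of a smooth cubic surface never pass through one point. -/
theorem not_four_lines [IsAlgClosed k] (hf : f.IsHomogeneous 3) (hs : SmoothB f) {e : V} (he : e ≠ 0)
    (U : Fin 4 → Submodule k V) (hinj : Function.Injective U)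
    (hU : ∀ i, Module.finrank k (U i) = 2 ∧ e ∈ U i ∧ ∀ u ∈ U i, eval u f = 0) : False := by
  choose u hspan hu hb hq hc using fun i => exists_rep_of_line hf he (hU i).1 (hU i).2.1 (hU i).2.2
  have hBe : B f e e e = 0 := by rw [← eval_eq_B hf]; exact (hU 0).2.2 e (hU 0).2.1
  obtain ⟨z, hz⟩ := exists_beta_eq_one hs he hBe
  obtain ⟨hind, hK⟩ := frame hs he hBe (hinj.ne (show (0 : Fin 4) ≠ 1 by decide)) (hU 0).1 (hU 1).1
    (hspan 0) (hspan 1) (hu 0) (hb 0) (hb 1)
  have hco : ∀ x, B f e e x = 0 → ∃ a b c : k, x = a • e + b • u 0 + c • u 1 := fun x hx => by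
    obtain ⟨g, hg⟩ := Submodule.mem_span_range_iff_exists_fun k |>.1
      (hK ▸ (show x ∈ LinearMap.ker (beta f e) from hx))
    simp [Fin.sum_univ_three] at hg
    exact ⟨g 0, g 1, g 2, hg.symm⟩
  obtain ⟨a, b, c, h2⟩ := hco _ (hb 2)
  obtain ⟨a', b', c', h3⟩ := hco _ (hb 3)
  have hle : ∀ i j : Fin 4, i ≠ j → u i ∉ U j := fun i j hij hm => by
    refine hij (hinj (Submodule.eq_of_le_of_finrank_eq ?_ (by rw [(hU i).1, (hU j).1])))
    rw [hspan i, Submodule.span_le]
    intro x hx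
    rcases hx with rfl | rfl
    · exact (hU j).2.1
    · exact hm
  have hm : ∀ (j : Fin 4) (r s : k), r • e + s • u j ∈ U j := fun j r s =>
    hspan j ▸ Submodule.mem_span_pair.2 ⟨r, s, rfl⟩
  have hbne : b ≠ 0 := fun h0 => hle 2 1 (by decide) (by
    rw [h2, h0, zero_smul, add_zero]; exact hm 1 a c)
  have hcne : c ≠ 0 := fun h0 => hle 2 0 (by decide) (by
    rw [h2, h0, zero_smul, add_zero]; exact hm 0 a b)
  have hb'ne : b' ≠ 0 := fun h0 => hle 3 1 (by decide) (by
    rw [h3, h0, zero_smul, add_zero]; exact hm 1 a' c')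
  have hc'ne : c' ≠ 0 := fun h0 => hle 3 0 (by decide) (by
    rw [h3, h0, zero_smul, add_zero]; exact hm 0 a' b')
  have hdet : b * c' - b' * c ≠ 0 := fun h0 => hle 3 2 (by decide) (by
    have : u 3 = (a' - b' / b * a) • e + (b' / b) • u 2 := by
      rw [h3, h2, show c' = b' / b * c by field_simp; linear_combination h0]
      match_scalars <;> field_simp <;> ring
    rw [this]; exact hm 2 _ _)
  have hexp : ∀ r s t : k, B f (r • e + s • u 0 + t • u 1) (r • e + s • u 0 + t • u 1) (r • e + s • u 0 + t • u 1) =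
      6 * r * s * t * B f e (u 0) (u 1) + 3 * s ^ 2 * t * B f (u 0) (u 0) (u 1)
        + 3 * s * t ^ 2 * B f (u 0) (u 1) (u 1) := fun r s t => by
    have hb0 := hb 0; have hb1 := hb 1; have hq0 := hq 0; have hq1 := hq 1
    have hc0 := hc 0; have hc1 := hc 1
    rw [B_self_add, B_self_add]
    simp only [B_add₁, B_add₂, B_smul₁, B_smul₂, B_smul₃]
    rw [B_comm₁₂ (u 0) e (u 1), B_comm₁₂ e (u 0) (u 0)] at *
    simp only [hBe, hb0, hb1, hq0, hq1, hc0, hc1]
    ring
  have h01 : B f e (u 0) (u 1) = 0 := by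
    have hq2 := hq 2
    rw [h2] at hq2
    simp only [B_add₂, B_add₃, B_smul₂, B_smul₃] at hq2
    rw [hBe, hb 0, hb 1, hq 0, hq 1, B_comm₂₃ e (u 0) e, hb 0, B_comm₂₃ e (u 1) e, hb 1,
      B_comm₂₃ e (u 1) (u 0)] at hq2
    have : b * c * B f e (u 0) (u 1) = 0 := by linear_combination (1/2 : k) * hq2
    exact (mul_eq_zero.1 this).resolve_left (mul_ne_zero hbne hcne)
  have E2 := hc 2
  rw [h2, hexp, h01] at E2
  have E3 := hc 3
  rw [h3, hexp, h01] at E3
  have E2' : b * B f (u 0) (u 0) (u 1) + c * B f (u 0) (u 1) (u 1) = 0 := by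
    refine mul_left_cancel₀ (mul_ne_zero (mul_ne_zero three_ne_zero hbne) hcne) ?_
    linear_combination E2
  have E3' : b' * B f (u 0) (u 0) (u 1) + c' * B f (u 0) (u 1) (u 1) = 0 := by
    refine mul_left_cancel₀ (mul_ne_zero (mul_ne_zero three_ne_zero hb'ne) hc'ne) ?_
    linear_combination E3
  have hP : B f (u 0) (u 0) (u 1) = 0 :=
    mul_left_cancel₀ hdet (by linear_combination c' * E2' - c * E3')
  have hQ : B f (u 0) (u 1) (u 1) = 0 :=
    mul_left_cancel₀ hdet (by linear_combination b * E3' - b' * E2')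
  obtain ⟨s, hs2⟩ := IsAlgClosed.exists_pow_nat_eq ((B f e (u 0) z) ^ 2 - B f (u 0) (u 0) z) (show 0 < 2 by norm_num)
  set r := s - B f e (u 0) z
  have hv : u 0 + r • e ≠ 0 := fun h0 => hu 0 (Submodule.mem_span_singleton.2
    ⟨-r, by linear_combination (norm := module) -h0⟩)
  obtain ⟨y, hy⟩ := hs _ hv (by
    rw [B_self_add, hc 0, B_comm₂₃ (u 0) (u 0) e, B_comm₁₂ (u 0) e (u 0), hq 0, B_comm₁₂ (u 0) e e,
      B_comm₂₃ e (u 0) e, hb 0, hBe]; ring)
  apply hy
  obtain ⟨p, p', p'', hy'⟩ := hco (y - B f e e y • z) (by rw [B_sub₃, B_smul₃, hz]; ring)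
  rw [← sub_add_cancel y (B f e e y • z), hy']
  simp only [B_add₁, B_add₂, B_add₃, B_smul₁, B_smul₂, B_smul₃]
  rw [B_comm₁₂ (u 0) e e, B_comm₁₂ (u 0) e (u 0), B_comm₁₂ (u 0) e (u 1), B_comm₁₂ (u 0) e z,
    B_comm₂₃ e (u 0) e, B_comm₂₃ (u 0) (u 0) e, B_comm₁₂ (u 0) e (u 0), hb 0, hb 1, hq 0, hc 0, hBe,
    h01, hP, hz]
  linear_combination B f e e y * hs2

theorem lines_through_point [IsAlgClosed k] (hf : f.IsHomogeneous 3) (hs : SmoothB f) {v : V} (hv : v ≠ 0)
    (hfv : eval v f = 0) :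
    {U : Submodule k V | v ∈ U ∧ (Module.finrank k ↥U = 2 ∧ ∀ u ∈ U, eval u f = 0)}.Finite ∧
      {U : Submodule k V | v ∈ U ∧ (Module.finrank k ↥U = 2 ∧ ∀ u ∈ U, eval u f = 0)}.ncard ≤ 3 ∧
      ∃ H : Submodule k V, Module.finrank k ↥H = 3 ∧
        ∀ U : Submodule k V, v ∈ U → (Module.finrank k ↥U = 2 ∧ ∀ u ∈ U, eval u f = 0) → U ≤ H := by
  set S := {U : Submodule k V | v ∈ U ∧ (Module.finrank k ↥U = 2 ∧ ∀ u ∈ U, eval u f = 0)}
  have henc : S.encard ≤ ((3 : ℕ) : ℕ∞) := by
    by_contra hcon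
    push Not at hcon
    have h4 : ((4 : ℕ) : ℕ∞) ≤ S.encard := by
      have := Order.add_one_le_of_lt hcon
      exact_mod_cast this
    obtain ⟨T, hTS, hT⟩ := Set.exists_subset_encard_eq h4
    have hTf : T.Finite := Set.finite_of_encard_eq_coe hT
    have hcard : hTf.toFinset.card = 4 := by
      rw [← Nat.cast_inj (R := ℕ∞), ← Set.encard_coe_eq_coe_finsetCard, Set.Finite.coe_toFinset, hT]
    let U : Fin 4 → Submodule k V := fun i => (hTf.toFinset.equivFinOfCardEq hcard).symm i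
    refine not_four_lines hf hs hv U (Subtype.val_injective.comp (Equiv.injective _)) fun i => ?_
    have := hTS (hTf.mem_toFinset.1 ((hTf.toFinset.equivFinOfCardEq hcard).symm i).2)
    exact ⟨this.2.1, this.1, this.2.2⟩
  obtain ⟨hfin, hn⟩ := Set.encard_le_coe_iff_finite_ncard_le.1 henc
  refine ⟨hfin, hn, LinearMap.ker (beta f v), ?_, fun U hvU hU x hx => ?_⟩
  · have hBe : B f v v v = 0 := by rwa [← eval_eq_B hf]
    obtain ⟨z, hz⟩ := exists_beta_eq_one hs hv hBe
    have hsurj : Function.Surjective (beta f v) := fun c => ⟨c • z, by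
      rw [map_smul, beta_apply, hz, smul_eq_mul, mul_one]⟩
    have := LinearMap.finrank_range_add_finrank_ker (beta f v)
    rw [Module.finrank_fin_fun, LinearMap.range_eq_top.2 hsurj, finrank_top, Module.finrank_self] at this
    omega
  · obtain ⟨u, hspan, -, hb, -⟩ := exists_rep_of_line hf hv hU.1 hvU hU.2
    rw [hspan] at hx
    obtain ⟨a, b, rfl⟩ := Submodule.mem_span_pair.1 hx
    rw [LinearMap.mem_ker, map_add, map_smul, map_smul, beta_apply, beta_apply, hb, ← eval_eq_B hf v, hfv]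
    simp

end Groth.Agent.EckardtLib
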